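import Cfsg.Agent.Lib.Helper11.Suz22880.D0
import Cfsg.Agent.Lib.Helper11.Suz22880.D1
import Cfsg.Agent.Lib.Helper11.Suz22880.D2
import Cfsg.Agent.Lib.Helper11.Words

set_option autoImplicit false
set_option maxRecDepth 100000

namespace Cfsg.Agent.Lib.Helper11.Suz22880

noncomputable def fc1_0 (i : ℕ) : ℕ := (Bool.rec (Bool.rec (Bool.rec (Bool.rec (fc0_0 i) (fc0_1 i) (Nat.ble 16 i)) (Bool.rec (fc0_2 i) (fc0_3 i) (Nat.ble 48 i)) (Nat.ble 32 i)) (Bool.rec (Bool.rec (fc0_4 i) (fc0_5 i) (Nat.ble 80 i)) (Bool.rec (fc0_6 i) (fc0_7 i) (Nat.ble 112 i)) (Nat.ble 96 i)) (Nat.ble 64 i)) (Bool.rec (Bool.rec (Bool.rec (fc0_8 i) (fc0_9 i) (Nat.ble 144 i)) (Bool.rec (fc0_10 i) (fc0_11 i) (Nat.ble 176 i)) (Nat.ble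 160 i)) (Bool.rec (Bool.rec (fc0_12 i) (fc0_13 i) (Nat.ble 208 i)) (Bool.rec (fc0_14 i) (fc0_15 i) (Nat.ble 240 i)) (Nat.ble 224 i)) (Nat.ble 192 i)) (Nat.ble 128 i))
noncomputable def fc1_1 (i : ℕ) : ℕ := (Bool.rec (Bool.rec (Bool.rec (Bool.rec (fc0_16 i) (fc0_17 i) (Nat.ble 272 i)) (Bool.rec (fc0_18 i) (fc0_19 i) (Nat.ble 304 i)) (Nat.ble 288 i)) (Bool.rec (Bool.rec (fc0_20 i) (fc0_21 i) (Nat.ble 336 i)) (Bool.rec (fc0_22 i) (fc0_23 i) (Nat.ble 368 i)) (Nat.ble 352 i)) (Nat.ble 320 i)) (Bool.rec (Bool.rec (Bool.rec (fc0_24 i) (fc0_25 i) (Nat.ble 400 i)) (Bool.rec (fc0_26 i) (fc0_27 i) (Nat.ble 432 i)) (Nat.ble 416 i)) (Bool.rec (Bool.rec (fc0_28 i) (fc0_29 i) (Nat.ble 464 i)) (Bool.rec (fc0_30 i)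 (fc0_31 i) (Nat.ble 496 i)) (Nat.ble 480 i)) (Nat.ble 448 i)) (Nat.ble 384 i))
noncomputable def fc1_2 (i : ℕ) : ℕ := (Bool.rec (Bool.rec (Bool.rec (fc0_32 i) (Bool.rec (fc0_33 i) (fc0_34 i) (Nat.ble 544 i)) (Nat.ble 528 i)) (Bool.rec (Bool.rec (fc0_35 i) (fc0_36 i) (Nat.ble 576 i)) (Bool.rec (fc0_37 i) (fc0_38 i) (Nat.ble 608 i)) (Nat.ble 592 i)) (Nat.ble 560 i)) (Bool.rec (Bool.rec (Bool.rec (fc0_39 i) (fc0_40 i) (Nat.ble 640 i)) (Bool.rec (fc0_41 i) (fc0_42 i) (Nat.ble 672 i)) (Nat.ble 656 i)) (Bool.rec (Bool.rec (fc0_43 i) (fc0_44 i) (Nat.ble 704 i)) (Bool.rec (fc0_45 i) (fc0_46 i) (Nat.ble 736 i)) (Nat.ble 720 i)) (Nat.ble 688 i)) (Nat.ble 624 i))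
noncomputable def fc2_0 (i : ℕ) : ℕ := (Bool.rec (fc1_0 i) (Bool.rec (fc1_1 i) (fc1_2 i) (Nat.ble 512 i)) (Nat.ble 256 i))
noncomputable def fc (i : ℕ) : ℕ := fc2_0 i
noncomputable def sc1_0 (i : ℕ) : ℕ := (Bool.rec (Bool.rec (Bool.rec (Bool.rec (sc0_0 i) (sc0_1 i) (Nat.ble 16 i)) (Bool.rec (sc0_2 i) (sc0_3 i) (Nat.ble 48 i)) (Nat.ble 32 i)) (Bool.rec (Bool.rec (sc0_4 i) (sc0_5 i) (Nat.ble 80 i)) (Bool.rec (sc0_6 i) (sc0_7 i) (Nat.ble 112 i)) (Nat.ble 96 i)) (Nat.ble 64 i)) (Bool.rec (Bool.rec (Bool.rec (sc0_8 i) (sc0_9 i) (Nat.ble 144 i)) (Bool.rec (sc0_10 i) (sc0_11 i) (Nat.ble 176 i)) (Nat.ble 160 i)) (Bool.rec (Bool.rec (sc0_12 i) (sc0_13 i) (Nat.ble 208 i)) (Bool.rec (sc0_14 i) (sc0_15 i) (Nat.ble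 240 i)) (Nat.ble 224 i)) (Nat.ble 192 i)) (Nat.ble 128 i))
noncomputable def sc1_1 (i : ℕ) : ℕ := (Bool.rec (Bool.rec (Bool.rec (Bool.rec (sc0_16 i) (sc0_17 i) (Nat.ble 272 i)) (Bool.rec (sc0_18 i) (sc0_19 i) (Nat.ble 304 i)) (Nat.ble 288 i)) (Bool.rec (Bool.rec (sc0_20 i) (sc0_21 i) (Nat.ble 336 i)) (Bool.rec (sc0_22 i) (sc0_23 i) (Nat.ble 368 i)) (Nat.ble 352 i)) (Nat.ble 320 i)) (Bool.rec (Bool.rec (Bool.rec (sc0_24 i) (sc0_25 i) (Nat.ble 400 i)) (Bool.rec (sc0_26 i) (sc0_27 i) (Nat.ble 432 i)) (Nat.ble 416 i)) (Bool.rec (Bool.rec (sc0_28 i) (sc0_29 i) (Nat.ble 464 i)) (Bool.rec (sc0_30 i) (sc0_31 i) (Nat.ble 496 i)) (Nat.ble 480 i)) (Nat.ble 448 i)) (Nat.ble 384 i))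
noncomputable def sc1_2 (i : ℕ) : ℕ := (Bool.rec (Bool.rec (Bool.rec (sc0_32 i) (Bool.rec (sc0_33 i) (sc0_34 i) (Nat.ble 544 i)) (Nat.ble 528 i)) (Bool.rec (Bool.rec (sc0_35 i) (sc0_36 i) (Nat.ble 576 i)) (Bool.rec (sc0_37 i) (sc0_38 i) (Nat.ble 608 i)) (Nat.ble 592 i)) (Nat.ble 560 i)) (Bool.rec (Bool.rec (Bool.rec (sc0_39 i) (sc0_40 i) (Nat.ble 640 i)) (Bool.rec (sc0_41 i) (sc0_42 i) (Nat.ble 672 i)) (Nat.ble 656 i)) (Bool.rec (Bool.rec (sc0_43 i) (sc0_44 i) (Nat.ble 704 i)) (Bool.rec (sc0_45 i) (sc0_46 i) (Nat.ble 736 i)) (Nat.ble 720 i)) (Nat.ble 688 i)) (Nat.ble 624 i))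
noncomputable def sc2_0 (i : ℕ) : ℕ := (Bool.rec (sc1_0 i) (Bool.rec (sc1_1 i) (sc1_2 i) (Nat.ble 512 i)) (Nat.ble 256 i))
noncomputable def sc (i : ℕ) : ℕ := sc2_0 i
noncomputable def nc1_0 (i : ℕ) : ℕ := (Bool.rec (nc0_0 i) (Bool.rec (nc0_1 i) (nc0_2 i) (Nat.ble 32 i)) (Nat.ble 16 i))
noncomputable def nc (i : ℕ) : ℕ := nc1_0 i
noncomputable def cc1_0 (i : ℕ) : ℕ := (Bool.rec (Bool.rec (Bool.rec (Bool.rec (cc0_0 i) (cc0_1 i) (Nat.ble 16 i)) (Bool.rec (cc0_2 i) (cc0_3 i) (Nat.ble 48 i)) (Nat.ble 32 i)) (Bool.rec (Bool.rec (cc0_4 i) (cc0_5 i) (Nat.ble 80 i)) (Bool.rec (cc0_6 i) (cc0_7 i) (Nat.ble 112 i)) (Nat.ble 96 i)) (Nat.ble 64 i)) (Bool.rec (Bool.rec (Bool.rec (cc0_8 i) (cc0_9 i) (Nat.ble 144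 i)) (Bool.rec (cc0_10 i) (cc0_11 i) (Nat.ble 176 i)) (Nat.ble 160 i)) (Bool.rec (Bool.rec (cc0_12 i) (cc0_13 i) (Nat.ble 208 i)) (Bool.rec (cc0_14 i) (cc0_15 i) (Nat.ble 240 i)) (Nat.ble 224 i)) (Nat.ble 192 i)) (Nat.ble 128 i))
noncomputable def cc1_1 (i : ℕ) : ℕ := (Bool.rec (Bool.rec (Bool.rec (Bool.rec (cc0_16 i) (cc0_17 i) (Nat.ble 272 i)) (Bool.rec (cc0_18 i) (cc0_19 i) (Nat.ble 304 i)) (Nat.ble 288 i)) (Bool.rec (Bool.rec (cc0_20 i) (cc0_21 i) (Nat.ble 336 i)) (Bool.rec (cc0_22 i) (cc0_23 i) (Nat.ble 368 i)) (Nat.ble 352 i)) (Nat.ble 320 i)) (Bool.rec (Bool.rec (Bool.rec (cc0_24 i) (cc0_25 i) (Nat.ble 400 i)) (Bool.rec (cc0_26 i) (cc0_27 i) (Nat.ble 432 i)) (Nat.ble 416 i)) (Bool.rec (Bool.rec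 (cc0_28 i) (cc0_29 i) (Nat.ble 464 i)) (Bool.rec (cc0_30 i) (cc0_31 i) (Nat.ble 496 i)) (Nat.ble 480 i)) (Nat.ble 448 i)) (Nat.ble 384 i))
noncomputable def cc1_2 (i : ℕ) : ℕ := (Bool.rec (Bool.rec (Bool.rec (cc0_32 i) (Bool.rec (cc0_33 i) (cc0_34 i) (Nat.ble 544 i)) (Nat.ble 528 i)) (Bool.rec (cc0_35 i) (Bool.rec (cc0_36 i) (cc0_37 i) (Nat.ble 592 i)) (Nat.ble 576 i)) (Nat.ble 560 i)) (Bool.rec (Bool.rec (cc0_38 i) (Bool.rec (cc0_39 i) (cc0_40 i) (Nat.ble 640 i)) (Nat.ble 624 i)) (Bool.rec (Bool.rec (cc0_41 i) (cc0_42 i) (Nat.ble 672 i)) (Bool.rec (cc0_43 i) (cc0_44 i) (Nat.ble 704 i)) (Nat.ble 688 i)) (Nat.ble 656 i)) (Nat.ble 608 i))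
noncomputable def cc2_0 (i : ℕ) : ℕ := (Bool.rec (cc1_0 i) (Bool.rec (cc1_1 i) (cc1_2 i) (Nat.ble 512 i)) (Nat.ble 256 i))
noncomputable def cc (i : ℕ) : ℕ := cc2_0 i

noncomputable def INV : ℕ := 247132686368
def isH (l : ℕ) : Bool := decide (l ∈ [1, 2, 3, 4, 6, 7])
def gens : List ℕ := [1, 2, 3, 4, 5, 6, 7]
def rt : RT := (.node 16 (.node 7 (.node 4 (.node 2 (.node 1 (.leaf 13 0 [1, 6, 1, 6]) (.leaf 27 0 [3, 6, 3, 6])) (.node 3 (.leaf 28 0 [3, 7, 3, 7]) (.leaf 34 0 [4, 6, 4, 6]))) (.node 6 (.node 5 (.leaf 19 1 [5, 2, 5, 2]) (.leaf 35 0 [4, 7, 4, 7])) (.leaf 18 1 [4, 2, 4, 2]))) (.node 11 (.node 9 (.node 8 (.leaf 41 0 [5, 6, 5, 6]) (.leaf 42 0 [5, 7, 5, 7])) (.node 10 (.leaf 14 0 [1, 7, 1, 7]) (.leaf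 58 2 [6, 7, 6, 1, 7]))) (.node 14 (.node 13 (.node 12 (.leaf 58 3 [7, 6, 1, 7, 6]) (.leaf 10 0 [1, 3, 1, 3])) (.leaf 26 1 [5, 3, 5, 3])) (.node 15 (.leaf 21 1 [7, 2, 7, 2, 7, 2]) (.leaf 20 1 [6, 2, 6, 2, 6, 2]))))) (.node 29 (.node 23 (.node 20 (.node 18 (.node 17 (.leaf 18 0 [2, 4, 2, 4]) (.leaf 11 0 [1, 4, 1, 4])) (.node 19 (.leaf 17 0 [2, 3, 2, 3, 2, 3]) (.leaf 20 0 [2, 6, 2, 6, 2, 6]))) (.node 22 (.node 21 (.leaf 21 0 [2, 7, 2, 7, 2, 7]) (.leaf 7 0 [7, 7])) (.leaf 17 1 [3, 2, 3, 2, 3, 2]))) (.node 26 (.node 25 (.node 24 (.leaf 28 1 [7, 3, 7, 3]) (.leaf 2 0 [2, 2])) (.leaf 27 1 [6, 3, 6, 3])) (.node 28 (.node 27 (.leaf 6 0 [6, 6]) (.leaf 19 0 [2, 5, 2, 5])) (.leaf 3 0 [3, 3])))) (.node 39 (.node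 34 (.node 32 (.node 31 (.node 30 (.leaf 26 0 [3, 5, 3, 5]) (.leaf 12 1 [5, 1, 5, 1])) (.leaf 11 1 [4, 1, 4, 1])) (.node 33 (.leaf 12 0 [1, 5, 1, 5]) (.leaf 1 0 [1, 1]))) (.node 37 (.node 36 (.node 35 (.leaf 4 0 [4, 4]) (.leaf 35 1 [7, 4, 7, 4])) (.leaf 34 1 [6, 4, 6, 4])) (.node 38 (.leaf 9 0 [1, 2, 1, 2, 1, 2, 1, 2, 1, 2]) (.leaf 5 0 [5, 5])))) (.node 46 (.node 43 (.node 41 (.node 40 (.leaf 33 0 [4, 5, 4, 5, 4, 5]) (.leaf 42 1 [7, 5, 7, 5])) (.node 42 (.leaf 41 1 [6, 5, 6, 5]) (.leaf 13 1 [6, 1, 6, 1]))) (.node 45 (.node 44 (.leaf 14 1 [7, 1, 7, 1]) (.leaf 57 2 [3, 4, 3, 4, 3, 4, 3, 1, 4])) (.leaf 57 3 [4, 3, 4, 3, 4, 3, 1, 4, 3]))) (.node 51 (.node 48 (.node 47 (.leaf 10 1 [3, 1, 3, 1]) (.leaf 33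 1 [5, 4, 5, 4, 5, 4])) (.node 50 (.node 49 (.leaf 9 1 [2, 1, 2, 1, 2, 1, 2, 1, 2, 1]) (.leaf 60 0 [2, 6, 7, 2, 6, 7, 2, 6, 7, 2, 6, 7, 2, 6, 7])) (.leaf 58 4 [6, 1, 7, 6, 7]))) (.node 57 (.node 54 (.node 53 (.node 52 (.leaf 58 1 [7, 6, 7, 6, 1]) (.leaf 60 2 [7, 2, 6, 7, 2, 6, 7, 2, 6, 7, 2, 6, 7, 2, 6])) (.leaf 59 0 [1, 2, 3, 6, 1, 2, 3, 6, 1, 2, 3, 6, 1, 2, 3, 6, 1, 2, 3, 6])) (.node 56 (.node 55 (.leaf 60 1 [6, 7, 2, 6, 7, 2, 6, 7, 2, 6, 7, 2, 6, 7, 2]) (.leaf 58 0 [1, 7, 6, 7, 6])) (.leaf 59 1 [2, 3, 6, 1, 2, 3, 6, 1, 2, 3, 6, 1, 2, 3, 6, 1, 2, 3, 6, 1]))) (.node 62 (.node 60 (.node 59 (.node 58 (.leaf 59 2 [3, 6, 1, 2, 3, 6, 1, 2, 3, 6, 1, 2, 3, 6, 1, 2, 3, 6, 1, 2]) (.leaf 59 3 [6, 1, 2, 3, 6,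 1, 2, 3, 6, 1, 2, 3, 6, 1, 2, 3, 6, 1, 2, 3])) (.leaf 0 0 [])) (.node 61 (.leaf 57 1 [4, 3, 4, 3, 4, 3, 4, 3, 1]) (.leaf 57 8 [3, 1, 4, 3, 4, 3, 4, 3, 4]))) (.node 68 (.node 65 (.node 64 (.node 63 (.leaf 57 0 [1, 4, 3, 4, 3, 4, 3, 4, 3]) (.leaf 57 6 [3, 4, 3, 1, 4, 3, 4, 3, 4])) (.leaf 57 5 [4, 3, 4, 3, 1, 4, 3, 4, 3])) (.node 67 (.node 66 (.leaf 57 7 [4, 3, 1, 4, 3, 4, 3, 4, 3]) (.leaf 61 6 [3, 4, 3, 4, 2, 3, 4, 3, 4, 2, 3, 4, 3, 4, 2, 3, 4, 3, 4, 5, 2, 3, 4, 3, 4, 2, 3, 4, 3, 4, 2, 3, 4, 3, 4, 2, 3, 4, 3, 4, 2, 3, 4, 3, 4, 5, 2, 3, 4, 3, 4, 2, 3, 4, 3, 4, 2, 3, 4, 3, 4, 2, 3, 4, 3, 4, 2, 3, 4, 3, 4, 5, 2, 3, 4, 3, 4, 2])) (.leaf 57 4 [3, 4, 3, 4, 3, 1, 4, 3, 4]))) (.node 76 (.node 71 (.node 70 (.node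 69 (.leaf 61 24 [4, 5, 2, 3, 4, 3, 4, 2, 3, 4, 3, 4, 2, 3, 4, 3, 4, 2, 3, 4, 3, 4, 2, 3, 4, 3, 4, 5, 2, 3, 4, 3, 4, 2, 3, 4, 3, 4, 2, 3, 4, 3, 4, 2, 3, 4, 3, 4, 2, 3, 4, 3, 4, 5, 2, 3, 4, 3, 4, 2, 3, 4, 3, 4, 2, 3, 4, 3, 4, 2, 3, 4, 3, 4, 2, 3, 4, 3]) (.leaf 61 4 [4, 2, 3, 4, 3, 4, 2, 3, 4, 3, 4, 2, 3, 4, 3, 4, 2, 3, 4, 3, 4, 5, 2, 3, 4, 3, 4, 2, 3, 4, 3, 4, 2, 3, 4, 3, 4, 2, 3, 4, 3, 4, 2, 3, 4, 3, 4, 5, 2, 3, 4, 3, 4, 2, 3, 4, 3, 4, 2, 3, 4, 3, 4, 2, 3, 4, 3, 4, 2, 3, 4, 3, 4, 5, 2, 3, 4, 3])) (.leaf 61 1 [3, 4, 3, 4, 2, 3, 4, 3, 4, 2, 3, 4, 3, 4, 2, 3, 4, 3, 4, 2, 3, 4, 3, 4, 5, 2, 3, 4, 3, 4, 2, 3, 4, 3, 4, 2, 3, 4, 3, 4, 2, 3, 4, 3, 4, 2, 3, 4, 3, 4, 5, 2, 3, 4, 3, 4, 2, 3, 4, 3, 4, 2, 3, 4,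 3, 4, 2, 3, 4, 3, 4, 2, 3, 4, 3, 4, 5, 2])) (.node 74 (.node 73 (.node 72 (.leaf 61 0 [2, 3, 4, 3, 4, 2, 3, 4, 3, 4, 2, 3, 4, 3, 4, 2, 3, 4, 3, 4, 2, 3, 4, 3, 4, 5, 2, 3, 4, 3, 4, 2, 3, 4, 3, 4, 2, 3, 4, 3, 4, 2, 3, 4, 3, 4, 2, 3, 4, 3, 4, 5, 2, 3, 4, 3, 4, 2, 3, 4, 3, 4, 2, 3, 4, 3, 4, 2, 3, 4, 3, 4, 2, 3, 4, 3, 4, 5]) (.leaf 61 7 [4, 3, 4, 2, 3, 4, 3, 4, 2, 3, 4, 3, 4, 2, 3, 4, 3, 4, 5, 2, 3, 4, 3, 4, 2, 3, 4, 3, 4, 2, 3, 4, 3, 4, 2, 3, 4, 3, 4, 2, 3, 4, 3, 4, 5, 2, 3, 4, 3, 4, 2, 3, 4, 3, 4, 2, 3, 4, 3, 4, 2, 3, 4, 3, 4, 2, 3, 4, 3, 4, 5, 2, 3, 4, 3, 4, 2, 3])) (.leaf 61 11 [3, 4, 3, 4, 2, 3, 4, 3, 4, 2, 3, 4, 3, 4, 5, 2, 3, 4, 3, 4, 2, 3, 4, 3, 4, 2, 3, 4, 3, 4, 2, 3, 4, 3, 4, 2, 3, 4, 3, 4, 5,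 2, 3, 4, 3, 4, 2, 3, 4, 3, 4, 2, 3, 4, 3, 4, 2, 3, 4, 3, 4, 2, 3, 4, 3, 4, 5, 2, 3, 4, 3, 4, 2, 3, 4, 3, 4, 2])) (.node 75 (.leaf 61 3 [3, 4, 2, 3, 4, 3, 4, 2, 3, 4, 3, 4, 2, 3, 4, 3, 4, 2, 3, 4, 3, 4, 5, 2, 3, 4, 3, 4, 2, 3, 4, 3, 4, 2, 3, 4, 3, 4, 2, 3, 4, 3, 4, 2, 3, 4, 3, 4, 5, 2, 3, 4, 3, 4, 2, 3, 4, 3, 4, 2, 3, 4, 3, 4, 2, 3, 4, 3, 4, 2, 3, 4, 3, 4, 5, 2, 3, 4]) (.leaf 61 9 [4, 2, 3, 4, 3, 4, 2, 3, 4, 3, 4, 2, 3, 4, 3, 4, 5, 2, 3, 4, 3, 4, 2, 3, 4, 3, 4, 2, 3, 4, 3, 4, 2, 3, 4, 3, 4, 2, 3, 4, 3, 4, 5, 2, 3, 4, 3, 4, 2, 3, 4, 3, 4, 2, 3, 4, 3, 4, 2, 3, 4, 3, 4, 2, 3, 4, 3, 4, 5, 2, 3, 4, 3, 4, 2, 3, 4, 3])))) (.node 82 (.node 79 (.node 78 (.node 77 (.leaf 61 25 [5, 2, 3, 4, 3, 4, 2, 3, 4, 3,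 4, 2, 3, 4, 3, 4, 2, 3, 4, 3, 4, 2, 3, 4, 3, 4, 5, 2, 3, 4, 3, 4, 2, 3, 4, 3, 4, 2, 3, 4, 3, 4, 2, 3, 4, 3, 4, 2, 3, 4, 3, 4, 5, 2, 3, 4, 3, 4, 2, 3, 4, 3, 4, 2, 3, 4, 3, 4, 2, 3, 4, 3, 4, 2, 3, 4, 3, 4]) (.leaf 61 10 [2, 3, 4, 3, 4, 2, 3, 4, 3, 4, 2, 3, 4, 3, 4, 5, 2, 3, 4, 3, 4, 2, 3, 4, 3, 4, 2, 3, 4, 3, 4, 2, 3, 4, 3, 4, 2, 3, 4, 3, 4, 5, 2, 3, 4, 3, 4, 2, 3, 4, 3, 4, 2, 3, 4, 3, 4, 2, 3, 4, 3, 4, 2, 3, 4, 3, 4, 5, 2, 3, 4, 3, 4, 2, 3, 4, 3, 4])) (.leaf 61 21 [3, 4, 3, 4, 5, 2, 3, 4, 3, 4, 2, 3, 4, 3, 4, 2, 3, 4, 3, 4, 2, 3, 4, 3, 4, 2, 3, 4, 3, 4, 5, 2, 3, 4, 3, 4, 2, 3, 4, 3, 4, 2, 3, 4, 3, 4, 2, 3, 4, 3, 4, 2, 3, 4, 3, 4, 5, 2, 3, 4, 3, 4, 2, 3, 4, 3, 4, 2, 3, 4, 3, 4, 2, 3, 4, 3, 4, 2])) (.node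 81 (.node 80 (.leaf 61 2 [4, 3, 4, 2, 3, 4, 3, 4, 2, 3, 4, 3, 4, 2, 3, 4, 3, 4, 2, 3, 4, 3, 4, 5, 2, 3, 4, 3, 4, 2, 3, 4, 3, 4, 2, 3, 4, 3, 4, 2, 3, 4, 3, 4, 2, 3, 4, 3, 4, 5, 2, 3, 4, 3, 4, 2, 3, 4, 3, 4, 2, 3, 4, 3, 4, 2, 3, 4, 3, 4, 2, 3, 4, 3, 4, 5, 2, 3]) (.leaf 61 5 [2, 3, 4, 3, 4, 2, 3, 4, 3, 4, 2, 3, 4, 3, 4, 2, 3, 4, 3, 4, 5, 2, 3, 4, 3, 4, 2, 3, 4, 3, 4, 2, 3, 4, 3, 4, 2, 3, 4, 3, 4, 2, 3, 4, 3, 4, 5, 2, 3, 4, 3, 4, 2, 3, 4, 3, 4, 2, 3, 4, 3, 4, 2, 3, 4, 3, 4, 2, 3, 4, 3, 4, 5, 2, 3, 4, 3, 4])) (.leaf 61 22 [4, 3, 4, 5, 2, 3, 4, 3, 4, 2, 3, 4, 3, 4, 2, 3, 4, 3, 4, 2, 3, 4, 3, 4, 2, 3, 4, 3, 4, 5, 2, 3, 4, 3, 4, 2, 3, 4, 3, 4, 2, 3, 4, 3, 4, 2, 3, 4, 3, 4, 2, 3, 4, 3, 4, 5, 2, 3, 4, 3, 4,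 2, 3, 4, 3, 4, 2, 3, 4, 3, 4, 2, 3, 4, 3, 4, 2, 3]))) (.node 87 (.node 85 (.node 84 (.node 83 (.leaf 25 0 [3, 4, 3, 4, 3, 4, 3, 4, 3, 4, 3, 4, 3, 4, 3, 4]) (.leaf 61 14 [4, 2, 3, 4, 3, 4, 2, 3, 4, 3, 4, 5, 2, 3, 4, 3, 4, 2, 3, 4, 3, 4, 2, 3, 4, 3, 4, 2, 3, 4, 3, 4, 2, 3, 4, 3, 4, 5, 2, 3, 4, 3, 4, 2, 3, 4, 3, 4, 2, 3, 4, 3, 4, 2, 3, 4, 3, 4, 2, 3, 4, 3, 4, 5, 2, 3, 4, 3, 4, 2, 3, 4, 3, 4, 2, 3, 4, 3])) (.leaf 49 1 [7, 6, 7, 6, 7, 6, 7, 6])) (.node 86 (.leaf 25 1 [4, 3, 4, 3, 4, 3, 4, 3, 4, 3, 4, 3, 4, 3, 4, 3]) (.leaf 61 23 [3, 4, 5, 2, 3, 4, 3, 4, 2, 3, 4, 3, 4, 2, 3, 4, 3, 4, 2, 3, 4, 3, 4, 2, 3, 4, 3, 4, 5, 2, 3, 4, 3, 4, 2, 3, 4, 3, 4, 2, 3, 4, 3, 4, 2, 3, 4, 3, 4, 2, 3, 4, 3, 4, 5, 2, 3, 4, 3,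 4, 2, 3, 4, 3, 4, 2, 3, 4, 3, 4, 2, 3, 4, 3, 4, 2, 3, 4]))) (.node 90 (.node 89 (.node 88 (.leaf 61 16 [3, 4, 3, 4, 2, 3, 4, 3, 4, 5, 2, 3, 4, 3, 4, 2, 3, 4, 3, 4, 2, 3, 4, 3, 4, 2, 3, 4, 3, 4, 2, 3, 4, 3, 4, 5, 2, 3, 4, 3, 4, 2, 3, 4, 3, 4, 2, 3, 4, 3, 4, 2, 3, 4, 3, 4, 2, 3, 4, 3, 4, 5, 2, 3, 4, 3, 4, 2, 3, 4, 3, 4, 2, 3, 4, 3, 4, 2]) (.leaf 61 13 [3, 4, 2, 3, 4, 3, 4, 2, 3, 4, 3, 4, 5, 2, 3, 4, 3, 4, 2, 3, 4, 3, 4, 2, 3, 4, 3, 4, 2, 3, 4, 3, 4, 2, 3, 4, 3, 4, 5, 2, 3, 4, 3, 4, 2, 3, 4, 3, 4, 2, 3, 4, 3, 4, 2, 3, 4, 3, 4, 2, 3, 4, 3, 4, 5, 2, 3, 4, 3, 4, 2, 3, 4, 3, 4, 2, 3, 4])) (.leaf 49 0 [6, 7, 6, 7, 6, 7, 6, 7])) (.node 92 (.node 91 (.leaf 61 12 [4, 3, 4, 2, 3, 4, 3, 4, 2, 3, 4, 3, 4, 5, 2,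 3, 4, 3, 4, 2, 3, 4, 3, 4, 2, 3, 4, 3, 4, 2, 3, 4, 3, 4, 2, 3, 4, 3, 4, 5, 2, 3, 4, 3, 4, 2, 3, 4, 3, 4, 2, 3, 4, 3, 4, 2, 3, 4, 3, 4, 2, 3, 4, 3, 4, 5, 2, 3, 4, 3, 4, 2, 3, 4, 3, 4, 2, 3]) (.leaf 61 19 [4, 2, 3, 4, 3, 4, 5, 2, 3, 4, 3, 4, 2, 3, 4, 3, 4, 2, 3, 4, 3, 4, 2, 3, 4, 3, 4, 2, 3, 4, 3, 4, 5, 2, 3, 4, 3, 4, 2, 3, 4, 3, 4, 2, 3, 4, 3, 4, 2, 3, 4, 3, 4, 2, 3, 4, 3, 4, 5, 2, 3, 4, 3, 4, 2, 3, 4, 3, 4, 2, 3, 4, 3, 4, 2, 3, 4, 3])) (.node 93 (.leaf 61 17 [4, 3, 4, 2, 3, 4, 3, 4, 5, 2, 3, 4, 3, 4, 2, 3, 4, 3, 4, 2, 3, 4, 3, 4, 2, 3, 4, 3, 4, 2, 3, 4, 3, 4, 5, 2, 3, 4, 3, 4, 2, 3, 4, 3, 4, 2, 3, 4, 3, 4, 2, 3, 4, 3, 4, 2, 3, 4, 3, 4, 5, 2, 3, 4, 3, 4, 2, 3, 4, 3, 4, 2, 3, 4, 3, 4, 2, 3]) (.leaf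 61 18 [3, 4, 2, 3, 4, 3, 4, 5, 2, 3, 4, 3, 4, 2, 3, 4, 3, 4, 2, 3, 4, 3, 4, 2, 3, 4, 3, 4, 2, 3, 4, 3, 4, 5, 2, 3, 4, 3, 4, 2, 3, 4, 3, 4, 2, 3, 4, 3, 4, 2, 3, 4, 3, 4, 2, 3, 4, 3, 4, 5, 2, 3, 4, 3, 4, 2, 3, 4, 3, 4, 2, 3, 4, 3, 4, 2, 3, 4])))))))))))))))


end Cfsg.Agent.Lib.Helper11.Suz22880
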